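import Cfsg.Agent.H695.Third
import Cfsg.Agent.H620.SporCrit_m3
import Cfsg.Agent.H621.AltChar
import Cfsg.Agent.H419.TwoTrans_m3
import Cfsg.Agent.Prune
set_option linter.all false
prune_inst 0x7f00000000000000000000000000000000000000000000000000000000000000000000000000000000000000000000000000000000000000000000000000000000000000000000000000000000000000003fffffffffffffffffffffffffffbeffbdffffffff
open scoped Cfsg.Agent.FastGrp

/-!
# Tools for the sporadic rows of S4849 (helper695)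
-/

set_option autoImplicit false

namespace Cfsg.Agent.H695.Spor.Tool

open Cfsg Cfsg.Agent.H620 Cfsg.Agent.H713 Cfsg.Agent.H620.SporCrit Cfsg.Agent.H665.NoPQ
open Cfsg.Agent.H621.AltChar Cfsg.Agent.H419.Row

/-- `Tri` from the orders of `VZ` elements. -/
theorem tri_of_vord {S : Type*} [Group S] {a b c : ℕ} (ha : VOrd S a) (hb : VOrd S b) (hc : VOrd S c)
    (hab : a.Coprime b) (hac : a.Coprime c) (hbc : b.Coprime c) : Tri S := by
  obtain ⟨x, hx, rfl⟩ := ha
  obtain ⟨y, hy, rfl⟩ := hb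
  obtain ⟨z, hz, rfl⟩ := hc
  exact ⟨x, y, z, hx, hy, hz, hab, hac, hbc⟩

/-- `Tri` from three primes of defect zero. -/
theorem tri_of_dz {S : Type*} [Group S] [Finite S] (p q r : ℕ) [hp : Fact p.Prime] [hq : Fact q.Prime]
    [hr : Fact r.Prime] (h1 : HasDZ p S) (h2 : HasDZ q S) (h3 : HasDZ r S) (hpd : p ∣ Nat.card S)
    (hqd : q ∣ Nat.card S) (hrd : r ∣ Nat.card S) (hpq : p ≠ q) (hpr : p ≠ r) (hqr : q ≠ r) : Tri S :=
  tri_of_vord (vord_of_dz h1 hpd) (vord_of_dz h2 hqd) (vord_of_dz h3 hrd)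
    ((Nat.coprime_primes hp.out hq.out).2 hpq) ((Nat.coprime_primes hp.out hr.out).2 hpr)
    ((Nat.coprime_primes hq.out hr.out).2 hqr)

/-- The character of degree `n (n - 3) / 2` of a `4`-transitive group. -/
theorem dz_a {G : Type*} [Group G] [Finite G] (Ω : Type*) [MulAction G Ω] [Finite Ω]
    (h : MulAction.IsMultiplyPretransitive G Ω 4) {p n d k : ℕ} (hp : p.Prime) (hk : Nat.card Ω = k)
    (hk5 : 5 ≤ k) (hd : k * k = 3 * k + 2 * d) (hpd : p ^ n ∣ d) (hn : (Nat.card G).factorization p = n) :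
    HasDZ p G := by
  have := Fintype.ofFinite G
  have h1 := irr_a G Ω (by omega) h
  refine dz_of_dvd ⟨_, h1⟩ ?_ hn hp
  have h2 : charDegree ((⟨_, h1⟩ : IrrCharacter G) : G → ℂ) = d := by
    apply Blocks.Basic.charDegree_of_eq
    show ((nf Ω (1 : G) : ℂ) ^ 2 - 3 * nf Ω (1 : G) + nu Ω (1 : G)) / 2 = d
    rw [nf_one G Ω, nu_one G Ω, hk]
    have h3 : ((k * k : ℕ) : ℂ) = ((3 * k + 2 * d : ℕ) : ℂ) := by rw [hd]
    push_cast at h3
    rw [pow_two, h3]
    push_cast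
    ring
  rw [h2]
  exact hpd

/-- The character of degree `(n - 1) (n - 2) / 2` of a `4`-transitive group. -/
theorem dz_b {G : Type*} [Group G] [Finite G] (Ω : Type*) [MulAction G Ω] [Finite Ω]
    (h : MulAction.IsMultiplyPretransitive G Ω 4) {p n d k : ℕ} (hp : p.Prime) (hk : Nat.card Ω = k)
    (hk5 : 4 ≤ k) (hd : k * k + 2 = 3 * k + 2 * d) (hpd : p ^ n ∣ d) (hn : (Nat.card G).factorization p = n) :
    HasDZ p G := by
  have := Fintype.ofFinite G
  have h1 := irr_b G Ω (by omega) h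
  refine dz_of_dvd ⟨_, h1⟩ ?_ hn hp
  have h2 : charDegree ((⟨_, h1⟩ : IrrCharacter G) : G → ℂ) = d := by
    apply Blocks.Basic.charDegree_of_eq
    show ((nf Ω (1 : G) : ℂ) ^ 2 - 3 * nf Ω (1 : G) + 2 - nu Ω (1 : G)) / 2 = d
    rw [nf_one G Ω, nu_one G Ω, hk]
    have h3 : ((k * k + 2 : ℕ) : ℂ) = ((3 * k + 2 * d : ℕ) : ℂ) := by rw [hd]
    push_cast at h3
    have h4 : (k : ℂ) ^ 2 + 2 = 3 * k + 2 * d := by rw [pow_two]; exact h3
    have h5 : (k : ℂ) ^ 2 - 3 * k + 2 - ((0 : ℕ) : ℂ) = 2 * d := by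
      rw [Nat.cast_zero]
      linear_combination h4
    rw [h5]
    ring
  rw [h2]
  exact hpd

theorem index_of_out {S : Type*} [Group S] (h : Nat.card (Cfsg.Out S) ∣ 2) :
    ((MulAut.conj : S →* MulAut S).range).index ∣ 2 := h

end Cfsg.Agent.H695.Spor.Tool
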