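import Mathlib
import Cfsg.Agent.SporadicB.J1Local.Main
import Cfsg.Agent.H419.TwoTrans_m3
import Cfsg.Agent.S2131
import Cfsg.Agent.OddHalf.D4.Spor.J1Out
import Cfsg.Agent.SporadicB.J1.Main
import Cfsg.Agent.H620.SporCrit_m3
import Cfsg.Agent.H713.Spor.Small
import Cfsg.Agent.H713.Spor.McL
import Cfsg.Agent.H419.Spor.M12
import Cfsg.Agent.H714.SporRows
import Cfsg.Agent.H413.JOneSpec
import Cfsg.Agent.Lib.PermCode
import Cfsg.Agent.H695.Spor.Tool
import Cfsg.Agent.Prune
set_option linter.all false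

-- part: H620/RowSporA
section
set_option linter.all false
open scoped Cfsg.Agent.FastGrp

-- part: SporadicB/J1Local/Count0
section
/-!
Counting inside `Z2 × A5` and inside `C_G(t) ≅ Z2 × A5`.
-/

set_option autoImplicit false

namespace Cfsg.Agent.SporadicB.J1Local.Count0

open Cfsg.Agent.SporRec.J1.Defs Cfsg.Agent.SporadicB.J1Local.Defs Cfsg.Agent.SporadicB.J1Local.Basic

/-! ### `A5` -/

theorem A5_card_three :
    (Finset.univ.filter fun g : alternatingGroup (Fin 5) => g * g * g = 1 ∧ g ≠ 1).card = 20 := by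
  simp only [↓Cfsg.Agent.PermCode.M, Cfsg.Agent.PermCode.P5.R, Cfsg.Agent.PermCode.B]
  decide +kernel

theorem A5_cent_three : ∀ g : alternatingGroup (Fin 5), g * g * g = 1 → g ≠ 1 →
    (Finset.univ.filter fun h : alternatingGroup (Fin 5) => h * g = g * h).card = 3 := by
  simp only [↓Cfsg.Agent.PermCode.M, Cfsg.Agent.PermCode.P5.R, Cfsg.Agent.PermCode.B]
  decide +kernel

/-! ### `ZA` -/

theorem z2_sq (z : Multiplicative (ZMod 2)) : z * z = 1 := by
  revert z; decide

/-- a predicate on `ZA` depending only on the second component. -/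
theorem card_snd (p : alternatingGroup (Fin 5) → Prop) [DecidablePred p] :
    Nat.card {x : ZA // p x.2} = 2 * (Finset.univ.filter p).card := by
  have e : {x : ZA // p x.2} ≃ Multiplicative (ZMod 2) × {g // p g} :=
    { toFun := fun x => (x.1.1, ⟨x.1.2, x.2⟩)
      invFun := fun y => ⟨(y.1, y.2.1), y.2.2⟩
      left_inv := fun x => rfl
      right_inv := fun y => rfl }
  rw [Nat.card_congr e, Nat.card_prod, Nat.card_eq_fintype_card, Nat.card_eq_fintype_card, Fintype.card_subtype]
  rfl

/-- a predicate on `ZA` forcing the first component to be trivial. -/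
theorem card_snd' (p : alternatingGroup (Fin 5) → Prop) [DecidablePred p] :
    Nat.card {x : ZA // x.1 = 1 ∧ p x.2} = (Finset.univ.filter p).card := by
  have e : {x : ZA // x.1 = 1 ∧ p x.2} ≃ {g // p g} :=
    { toFun := fun x => ⟨x.1.2, x.2.2⟩
      invFun := fun y => ⟨(1, y.1), rfl, y.2⟩
      left_inv := fun x => Subtype.ext (Prod.ext x.2.1.symm rfl)
      right_inv := fun y => rfl }
  rw [Nat.card_congr e, Nat.card_eq_fintype_card, Fintype.card_subtype]

theorem ZA_comm_iff (x y : ZA) : x * y = y * x ↔ x.2 * y.2 = y.2 * x.2 := by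
  constructor
  · intro h
    exact congrArg Prod.snd h
  · intro h
    exact Prod.ext (mul_comm _ _) h

theorem ZA_snd_of_orderOf_three {x : ZA} (hx : orderOf x = 3) : x.1 = 1 ∧ x.2 * x.2 * x.2 = 1 ∧ x.2 ≠ 1 := by
  have h1 : x ^ 3 = 1 := hx ▸ pow_orderOf_eq_one x
  have h2 : x.1 * x.1 * x.1 = 1 := by
    have := congrArg Prod.fst h1
    rw [pow_succ, pow_two] at this
    exact this
  have h3 : x.2 * x.2 * x.2 = 1 := by
    have := congrArg Prod.snd h1
    rw [pow_succ, pow_two] at this
    exact this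
  rw [z2_sq, one_mul] at h2
  refine ⟨h2, h3, ?_⟩
  intro h4
  have : x = 1 := Prod.ext h2 h4
  rw [this, orderOf_one] at hx
  omega

/-- the centraliser in `ZA` of an element of order 3 has order 6. -/
theorem ZA_cent_three {x : ZA} (hx : orderOf x = 3) : Nat.card {y : ZA // y * x = x * y} = 6 := by
  obtain ⟨h1, h2, h3⟩ := ZA_snd_of_orderOf_three hx
  have : Nat.card {y : ZA // y * x = x * y} = Nat.card {y : ZA // (fun h => h * x.2 = x.2 * h) y.2} := by
    apply Nat.card_congr
    exact Equiv.subtypeEquivRight (fun y => ZA_comm_iff y x)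
  rw [this, card_snd (fun h : alternatingGroup (Fin 5) => h * x.2 = x.2 * h), A5_cent_three _ h2 h3]

theorem ZA_card_three : Nat.card {x : ZA // orderOf x = 3} = 20 := by
  rw [← A5_card_three, ← card_snd' (fun g : alternatingGroup (Fin 5) => g * g * g = 1 ∧ g ≠ 1)]
  apply Nat.card_congr
  refine Equiv.subtypeEquivRight (fun x => ⟨fun h => ZA_snd_of_orderOf_three h, ?_⟩)
  rintro ⟨h1, h2, h3⟩
  apply orderOf_eq_prime
  · ext1
    · show x.1 ^ 3 = 1
      rw [h1, one_pow]
    · show x.2 ^ 3 = 1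
      rw [pow_succ, pow_two, h2]
  · rintro rfl
    exact h3 rfl

section Emb

variable {G : Type*} [Group G] {t : G} {φ : ZA →* G}

theorem Emb.orderOf_map (h : Emb t φ) (x : ZA) : orderOf (φ x) = orderOf x :=
  orderOf_injective φ h.inj x

/-- Counting elements of `C(t)` with a property. -/
theorem Emb.card_subtype (h : Emb t φ) (p : G → Prop) :
    Nat.card {g : G // g * t = t * g ∧ p g} = Nat.card {x : ZA // p (φ x)} := by
  symm
  refine Nat.card_eq_of_bijective (fun x => ⟨φ x.1, h.comm x.1, x.2⟩) ⟨?_, ?_⟩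
  · intro x y hxy
    exact Subtype.ext (h.inj (congrArg Subtype.val hxy))
  · rintro ⟨g, hg, hp⟩
    obtain ⟨x, rfl⟩ := h.exists_of_comm hg
    exact ⟨⟨x, hp⟩, rfl⟩

/-- `C(t)` has 20 elements of order 3. -/
theorem Emb.card_three (h : Emb t φ) : Nat.card {g : G // g * t = t * g ∧ orderOf g = 3} = 20 := by
  rw [card_subtype h (fun g => orderOf g = 3), ← ZA_card_three]
  apply Nat.card_congr
  exact Equiv.subtypeEquivRight (fun x => by rw [orderOf_map h])

/-- the centraliser in `C(t)` of an element of order 3 has order 6. -/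
theorem Emb.card_cent_three (h : Emb t φ) {x : G} (hx : x * t = t * x) (h3 : orderOf x = 3) :
    Nat.card {g : G // g * t = t * g ∧ g * x = x * g} = 6 := by
  obtain ⟨y, rfl⟩ := h.exists_of_comm hx
  rw [orderOf_map h] at h3
  rw [card_subtype h (fun g => g * φ y = φ y * g), ← ZA_cent_three h3]
  apply Nat.card_congr
  refine Equiv.subtypeEquivRight (fun x => ?_)
  rw [← map_mul, ← map_mul]
  exact h.inj.eq_iff

end Emb

end Cfsg.Agent.SporadicB.J1Local.Count0
end

-- part: H419/Spor/J1
section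
/-!
# `J1`: elements of order 6 have centralizers of order 6
-/

set_option autoImplicit false

namespace Cfsg.Agent.H419.Spor.J1

open Cfsg Cfsg.Agent.H713 Cfsg.Agent.H419.Row Cfsg.Agent.H419.Count
open Cfsg.Agent.SporadicB.J1Local.Basic Cfsg.Agent.SporadicB.J1Local.Count0

theorem evMix : EvMix Spor.J1 := by
  have hJ := Cfsg.Agent.SporadicB.J1.Main.isJ1
  have : Finite Spor.J1 := Nat.finite_of_card_ne_zero (by
    have h := hJ.2
    change Nat.card Spor.J1 = 175560 at h
    rw [h]; norm_num)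
  have hcard : Nat.card Spor.J1 = 175560 := hJ.2
  obtain ⟨t, ht, he⟩ := Cfsg.Agent.S2131.result
  obtain ⟨φ, hφ⟩ := exists_emb t ht he
  obtain ⟨y, hc, hy3⟩ : ∃ y : Spor.J1, y * t = t * y ∧ orderOf y = 3 := by
    have h := Cfsg.Agent.SporadicB.J1Local.Count0.Emb.card_three hφ
    have h1 : 0 < Nat.card {g : Spor.J1 // g * t = t * g ∧ orderOf g = 3} := by rw [h]; norm_num
    obtain ⟨⟨g, hg⟩⟩ := (Nat.card_pos_iff.1 h1).1
    exact ⟨g, hg⟩
  have h6 := Cfsg.Agent.SporadicB.J1Local.Count0.Emb.card_cent_three hφ hc hy3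
  have hcop : (orderOf t).Coprime (orderOf y) := by rw [ht, hy3]; norm_num
  have hord : orderOf (t * y) = 2 * 3 := by
    rw [(show Commute t y from hc.symm).orderOf_mul_eq_mul_orderOf_of_coprime hcop, ht, hy3]
  refine evMix_of_order (x := t * y) (p := 3) (vz_of_inner ?_ ?_) (by norm_num) (by norm_num) hord
  · refine van_mul_of_orders (z := t) (y := y) hc.symm hcop {1, 2, 3, 5, 7, 11, 19} ?_ ?_
    · intro n hn
      simp only [Finset.mem_insert, Finset.mem_singleton] at hn
      rcases hn with rfl | hn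
      · exact ⟨1, orderOf_one⟩
      have hp : n.Prime ∧ n ∣ Nat.card Spor.J1 := by
        rw [hcard]
        rcases hn with rfl | rfl | rfl | rfl | rfl | rfl <;> norm_num
      have : Fact n.Prime := ⟨hp.1⟩
      exact exists_prime_orderOf_dvd_card' n hp.2
    · rw [h6]
      decide
  · intro α
    exact Cfsg.Agent.OddHalf.D4.Spor.J1Out.inn α

end Cfsg.Agent.H419.Spor.J1
end

-- part: H620/RowSporA
section
/-!
# The rows of the small sporadic groups (helper620)
-/

set_option autoImplicit false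

namespace Cfsg.Agent.H620.RowSporA

open Cfsg Cfsg.Agent.H620 Cfsg.Agent.H713 Cfsg.Agent.H620.RowClass Cfsg.Agent.H620.SporCrit
open Cfsg.Agent.H665.NoPQ Cfsg.Agent.H419.Row Cfsg.Agent.H419.Count Cfsg.Agent.H419.LeechIrr
open Cfsg.Agent.H419.Spor.Mathieu Cfsg.Agent.H419.TwoTrans

instance fact_19 : Fact (Nat.Prime 19) := ⟨by norm_num⟩
instance fact_23 : Fact (Nat.Prime 23) := ⟨by norm_num⟩
instance fact_11 : Fact (Nat.Prime 11) := ⟨by norm_num⟩
instance fact_7 : Fact (Nat.Prime 7) := ⟨by norm_num⟩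
instance fact_5 : Fact (Nat.Prime 5) := ⟨by norm_num⟩

/-- A prime of defect zero and a `VZ` element of mixed even order. -/
theorem rows_of_evMix {S : Type*} [Group S] [Finite S] {p : ℕ} [hp : Fact p.Prime] (hp2 : p ≠ 2)
    (hpd : p ∣ Nat.card S) (h : HasDZ p S) (he : EvMix S)
    (hno : ∀ x : S, 2 ∣ orderOf x → ¬ p ∣ orderOf x) : Rows S := by
  obtain ⟨x, hx, h2, q, hq, hq2, hqx⟩ := he
  have hpx := hno x h2
  refine rows_of_orders [p, orderOf x] ?_ ?_ ![p, 2, q] ?_ ?_ ?_
  · intro m hm
    simp only [List.mem_cons, List.not_mem_nil, or_false] at hm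
    rcases hm with rfl | rfl
    · exact vord_of_dz h hpd
    · exact ⟨x, hx, rfl⟩
  · show Nat.gcd p (Nat.gcd (orderOf x) 0) = 1
    rw [Nat.gcd_zero_right]
    exact (Nat.Prime.coprime_iff_not_dvd hp.out).2 hpx
  · intro i
    fin_cases i
    · exact hp.out
    · exact Nat.prime_two
    · exact hq
  · intro i j hij
    have hpq : p ≠ q := fun e => hpx (e ▸ hqx)
    fin_cases i <;> fin_cases j <;> simp_all only [Ne.symm, _root_.ne_eq, _root_.not_false_eq_true, _root_.Fin.zero_eta, _root_.Fin.isValue, _root_.Matrix.cons_val_zero, _root_.Fin.mk_one, _root_.Matrix.cons_val_one, _root_.Fin.reduceFinMk, _root_.Matrix.cons_val]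
  · intro i
    fin_cases i
    · exact ⟨p, by simp, dvd_rfl⟩
    · exact ⟨orderOf x, by simp, h2⟩
    · exact ⟨orderOf x, by simp, hqx⟩

/-- Two odd primes of defect zero and a `VZ` element of even order. -/
theorem rows_of_evMix_two {S : Type*} [Group S] [Finite S] {p q : ℕ} [hp : Fact p.Prime] [hq : Fact q.Prime]
    (hp2 : p ≠ 2) (hq2 : q ≠ 2) (hpq : p ≠ q) (hpd : p ∣ Nat.card S) (hqd : q ∣ Nat.card S)
    (h : HasDZ p S) (h' : HasDZ q S) (he : EvMix S) : Rows S := by
  obtain ⟨x, hx, h2, -⟩ := he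
  exact rows_of_two p q 2 (orderOf x) Nat.prime_two h h' ⟨x, hx, rfl⟩ h2 hpd hqd hpq hp2 hq2

/-- `HasDZ` from a degree. -/
theorem dz_of_val {S : Type*} [Group S] [Finite S] {p n d : ℕ} (hp : p.Prime) (χ : IrrCharacter S)
    (h1 : (χ : S → ℂ) 1 = d) (hd : p ^ n ∣ d) (hn : (Nat.card S).factorization p = n) : HasDZ p S := by
  refine dz_of_dvd χ ?_ hn hp
  rwa [Blocks.Basic.charDegree_of_eq h1]

theorem m11 {K : Type*} [Group K] [Finite K] (h : IsM11 K) : Rows K := by
  obtain ⟨x, -, v, hv⟩ := Cfsg.Agent.SporadicA.M11Facts.exists_caseC h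
  have hc : Nat.card K = 7920 := h.2
  have h1 : HasDZ 3 K := Cfsg.Agent.H419.Spor.M11.dz_three h
  have h2 : HasDZ 2 K := dz_of_val (n := 4) Nat.prime_two (v 5) (d := 16) (by simpa using hv.degs 5) (by norm_num)
    (by rw [hc]; exact factorization_eq Nat.prime_two (m := 495) (by norm_num) (by norm_num))
  have h3 : HasDZ 5 K := dz_of_val (n := 1) Nat.prime_five (v 4) (d := 45) (by simpa using hv.degs 4) (by norm_num)
    (by rw [hc]; exact factorization_eq Nat.prime_five (m := 1584) (by norm_num) (by norm_num))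
  have : Fact (Nat.Prime 3) := ⟨by norm_num⟩
  have : Fact (Nat.Prime 2) := ⟨by norm_num⟩
  exact rows_of_dz 2 3 5 h2 h1 h3 (by rw [hc]; norm_num) (by rw [hc]; norm_num) (by rw [hc]; norm_num)
    (by norm_num) (by norm_num) (by norm_num)

theorem rows_m11 {K : Type*} [Group K] (h : Spor.IsoM11 K) : Rows K := by
  have h1 : Cfsg.IsM11 K := Cfsg.Agent.UGT.End.MEleven.isM11 h
  have hfin : Finite K := Nat.finite_of_card_ne_zero (by rw [h1.2]; norm_num)
  exact m11 h1

theorem rows_m12 {K : Type*} [Group K] (h : Spor.IsoM12 K) : Rows K := by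
  obtain ⟨e⟩ := h
  have hcard := Cfsg.Agent.H714.SporRows.card_m12
  have hfin : Finite Spor.M12 := Nat.finite_of_card_ne_zero (by rw [hcard]; norm_num)
  refine Rows.mulEquiv (rows_of_orders [5, 6] ?_ (by decide) ![5, 2, 3] ?_ ?_ ?_) e.symm
  · intro m hm
    simp only [List.mem_cons, List.not_mem_nil, or_false] at hm
    rcases hm with rfl | rfl
    · exact vord_of_dz Cfsg.Agent.H714.SporRows.hasDZ_five (by rw [hcard]; norm_num)
    · exact ⟨_, Cfsg.Agent.H419.Spor.M12.vz, Cfsg.Agent.H419.Spor.M12.x6_order⟩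
  · intro i
    fin_cases i <;> norm_num
  · intro i j hij
    fin_cases i <;> fin_cases j <;> simp_all only [_root_.Fin.zero_eta, _root_.Fin.isValue, _root_.Matrix.cons_val_zero, _root_.Fin.mk_one, _root_.Matrix.cons_val_one, _root_.Nat.reduceEqDiff, _root_.Fin.reduceFinMk, _root_.Matrix.cons_val, _root_.Nat.succ_ne_self]
  · intro i
    fin_cases i
    · exact ⟨5, by simp, dvd_rfl⟩
    · exact ⟨6, by simp, by norm_num⟩
    · exact ⟨6, by simp, by norm_num⟩

theorem rows_m22 {K : Type*} [Group K] (h : Spor.IsoM22 K) : Rows K := by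
  obtain ⟨e⟩ := h
  have hM : Cfsg.IsM22 Spor.M22 :=
    ⟨Cfsg.Agent.SporadicA.MathieuRecog.simple_M22, Cfsg.Agent.SporadicA.MathieuRecog.card_M22⟩
  have hcard : Nat.card Spor.M22 = 443520 := hM.2
  have hfin : Finite Spor.M22 := Nat.finite_of_card_ne_zero (by rw [hcard]; norm_num)
  obtain ⟨f, hf⟩ := Cfsg.Agent.H419.Spor.M22.degrees hM
  have h154 : charDegree ((f 6 : IrrCharacter Spor.M22) : Spor.M22 → ℂ) = 154 := hf 6
  have h45 : charDegree ((f 2 : IrrCharacter Spor.M22) : Spor.M22 → ℂ) = 45 := hf 2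
  have h7 : HasDZ 7 Spor.M22 := dz_of_dvd (n := 1) (f 6) (by rw [h154]; norm_num)
    (by rw [hcard]; exact factorization_eq (by norm_num) (m := 63360) (by norm_num) (by norm_num)) (by norm_num)
  have h11 : HasDZ 11 Spor.M22 := dz_of_dvd (n := 1) (f 6) (by rw [h154]; norm_num)
    (by rw [hcard]; exact factorization_eq (by norm_num) (m := 40320) (by norm_num) (by norm_num)) (by norm_num)
  have h5 : HasDZ 5 Spor.M22 := dz_of_dvd (n := 1) (f 2) (by rw [h45]; norm_num)
    (by rw [hcard]; exact factorization_eq (by norm_num) (m := 88704) (by norm_num) (by norm_num)) (by norm_num)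
  exact Rows.mulEquiv (rows_of_dz 7 11 5 h7 h11 h5 (by rw [hcard]; norm_num) (by rw [hcard]; norm_num)
    (by rw [hcard]; norm_num) (by norm_num) (by norm_num) (by norm_num)) e.symm

theorem hasDZ_m23 : HasDZ 11 Spor.M23 := by
  have hcard : Nat.card Spor.M23 = 10200960 := Cfsg.Agent.SporadicA.MathieuRecog.card_M23
  have h5 := Cfsg.Agent.S0366.result
  refine HasDZ.mulEquiv Cfsg.Agent.H419.Spor.M23.e ?_
  have hcard' : Nat.card Cfsg.Agent.H419.Spor.M23.St = 10200960 := by
    rw [Nat.card_congr Cfsg.Agent.H419.Spor.M23.e.toEquiv, hcard]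
  have h1 : MulAction.IsPretransitive M24 GolayPt := by
    rw [← MulAction.is_one_pretransitive_iff]
    exact MulAction.isMultiplyPretransitive_of_le (n := 5) (by norm_num) (by
      rw [Nat.card_eq_fintype_card]
      decide)
  have h4 : MulAction.IsMultiplyPretransitive Cfsg.Agent.H419.Spor.M23.St
      (SubMulAction.ofStabilizer M24 (none : GolayPt)) 4 :=
    SubMulAction.ofStabilizer.isMultiplyPretransitive.1 h5
  have h23 : Nat.card (SubMulAction.ofStabilizer M24 (none : GolayPt)) = 23 := by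
    rw [SubMulAction.nat_card_ofStabilizer_eq, Nat.card_eq_fintype_card]
    decide
  exact Cfsg.Agent.H713.Spor.Small.hasDZ_of_two_trans (SubMulAction.ofStabilizer M24 (none : GolayPt))
    (MulAction.isMultiplyPretransitive_of_le (n := 4) (by norm_num) (by rw [h23]; norm_num))
    (by rw [h23]; norm_num)
    (by rw [hcard']; exact factorization_eq_one (by norm_num) (by norm_num))
    (by rw [h23]; norm_num)

theorem vord_m23 : VOrd Spor.M23 6 := by
  have hv : Van Spor.M23 (Cfsg.Agent.H419.Spor.M23.e Cfsg.Agent.H419.Spor.M23.x6) := by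
    refine Van.of_surjective (Cfsg.Agent.H419.Spor.M23.e.symm : Spor.M23 →* Cfsg.Agent.H419.Spor.M23.St)
      Cfsg.Agent.H419.Spor.M23.e.symm.surjective ?_
    simp only [MonoidHom.coe_coe, MulEquiv.symm_apply_apply]
    refine van_of_fix_one (SubMulAction.ofStabilizer M24 (none : GolayPt)) ?_ ?_
      Cfsg.Agent.H419.Spor.M23.x6_fix
    · have h5 := Cfsg.Agent.S0366.result
      have h1 : MulAction.IsPretransitive M24 GolayPt := by
        rw [← MulAction.is_one_pretransitive_iff]
        exact MulAction.isMultiplyPretransitive_of_le (n := 5) (by norm_num) (by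
          rw [Nat.card_eq_fintype_card]
          decide)
      have h4 : MulAction.IsMultiplyPretransitive Cfsg.Agent.H419.Spor.M23.St
          (SubMulAction.ofStabilizer M24 (none : GolayPt)) 4 :=
        SubMulAction.ofStabilizer.isMultiplyPretransitive.1 h5
      refine MulAction.isMultiplyPretransitive_of_le (n := 4) (by norm_num) ?_
      rw [SubMulAction.nat_card_ofStabilizer_eq, Nat.card_eq_fintype_card]
      decide
    · rw [SubMulAction.nat_card_ofStabilizer_eq, Nat.card_eq_fintype_card]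
      decide
  refine ⟨Cfsg.Agent.H419.Spor.M23.e Cfsg.Agent.H419.Spor.M23.x6, vz_of_inner hv ?_, ?_⟩
  · intro α
    exact Cfsg.Agent.UGT.MTwentyThree.Aut.exists_conj α
  · rw [MulEquiv.orderOf_eq, Cfsg.Agent.H419.Spor.M23.x6_order]

/-- The orders `p` and `q * r`. -/
theorem rows_of_prime_mul {S : Type*} {p q r n : ℕ} [Group S] (hp : p.Prime) (hq : q.Prime) (hr : r.Prime)
    (hpq : p ≠ q) (hpr : p ≠ r) (hqr : q ≠ r) (h1 : VOrd S p) (h2 : VOrd S n) (hpn : ¬ p ∣ n)
    (hqn : q ∣ n) (hrn : r ∣ n) : Rows S := by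
  refine rows_of_orders [p, n] ?_ ?_ ![p, q, r] ?_ ?_ ?_
  · intro m hm
    simp only [List.mem_cons, List.not_mem_nil, or_false] at hm
    rcases hm with rfl | rfl
    · exact h1
    · exact h2
  · show Nat.gcd p (Nat.gcd n 0) = 1
    rw [Nat.gcd_zero_right]
    exact (Nat.Prime.coprime_iff_not_dvd hp).2 hpn
  · intro i
    fin_cases i <;> assumption
  · intro i j hij
    fin_cases i <;> fin_cases j <;> simp_all only [Ne.symm, _root_.ne_eq, _root_.Fin.zero_eta, _root_.Fin.isValue, _root_.Matrix.cons_val_zero, _root_.Fin.mk_one, _root_.Matrix.cons_val_one, _root_.not_false_eq_true, _root_.Fin.reduceFinMk, _root_.Matrix.cons_val]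
  · intro i
    fin_cases i
    · exact ⟨p, by simp, dvd_rfl⟩
    · exact ⟨n, by simp, hqn⟩
    · exact ⟨n, by simp, hrn⟩

theorem rows_m23 {K : Type*} [Group K] (h : Spor.IsoM23 K) : Rows K := by
  obtain ⟨e⟩ := h
  have hcard : Nat.card Spor.M23 = 10200960 := Cfsg.Agent.SporadicA.MathieuRecog.card_M23
  have hfin : Finite Spor.M23 := Nat.finite_of_card_ne_zero (by rw [hcard]; norm_num)
  exact Rows.mulEquiv (rows_of_prime_mul (p := 11) (q := 2) (r := 3) (n := 6) (by norm_num) (by norm_num)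
    (by norm_num) (by norm_num) (by norm_num) (by norm_num) (vord_of_dz hasDZ_m23 (by rw [hcard]; norm_num))
    vord_m23 (by norm_num) (by norm_num) (by norm_num)) e.symm

theorem hasDZ_m24 : HasDZ 23 M24 := by
  have hcard : Nat.card M24 = 244823040 := Cfsg.Agent.SporadicA.M24Trans.card_M24
  have h5 := Cfsg.Agent.S0366.result
  exact Cfsg.Agent.H713.Spor.Small.hasDZ_of_two_trans GolayPt
    (MulAction.isMultiplyPretransitive_of_le (n := 5) (by norm_num)
      (by rw [Nat.card_eq_fintype_card]; decide)) (by rw [Nat.card_eq_fintype_card]; decide)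
      (by rw [hcard]; exact factorization_eq_one (by norm_num) (by norm_num))
      (by rw [Nat.card_eq_fintype_card]; decide)

theorem vord_m24 : VOrd M24 14 := by
  refine ⟨x14, vz_of_inner ?_ ?_, x14_order⟩
  · refine van_of_fix_one GolayPt ?_ ?_ x14_fix
    · have h5 := Cfsg.Agent.S0366.result
      exact MulAction.isMultiplyPretransitive_of_le (n := 5) (by norm_num) (by
        rw [Nat.card_eq_fintype_card]
        decide)
    · rw [Nat.card_eq_fintype_card]
      decide
  · intro α
    exact Cfsg.Agent.KFacts.M24Two.Out.exists_conj α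

theorem rows_m24 {K : Type*} [Group K] (h : Spor.IsoM24 K) : Rows K := by
  obtain ⟨e⟩ := h
  have hcard : Nat.card M24 = 244823040 := Cfsg.Agent.SporadicA.M24Trans.card_M24
  have hfin : Finite M24 := Nat.finite_of_card_ne_zero (by rw [hcard]; norm_num)
  exact Rows.mulEquiv (rows_of_prime_mul (p := 23) (q := 2) (r := 7) (n := 14) (by norm_num) (by norm_num)
    (by norm_num) (by norm_num) (by norm_num) (by norm_num) (vord_of_dz hasDZ_m24 (by rw [hcard]; norm_num))
    vord_m24 (by norm_num) (by norm_num) (by norm_num)) e.symm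

theorem rows_j1 {K : Type*} [Group K] (h : Spor.IsoJ1 K) : Rows K := by
  obtain ⟨e⟩ := h
  have hcard := Cfsg.Agent.H714.SporRows.card_j1
  have hfin : Finite Spor.J1 := Nat.finite_of_card_ne_zero (by rw [hcard]; norm_num)
  refine Rows.mulEquiv (rows_of_evMix (p := 19) (by norm_num) (by rw [hcard]; norm_num)
    Cfsg.Agent.H714.SporRows.hasDZ_nineteen Cfsg.Agent.H419.Spor.J1.evMix ?_) e.symm
  intro x h2
  have h1 := (Cfsg.Agent.H413.JOneSpec.exists_orderOf_iff (orderOf x)).1 ⟨x, rfl⟩
  revert h2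
  generalize orderOf x = n at h1 ⊢
  fin_cases h1 <;> norm_num

theorem rows_hs {K : Type*} [Group K] (h : Spor.IsoHS K) : Rows K := by
  obtain ⟨e⟩ := h
  obtain ⟨hs, hcard⟩ := Cfsg.Agent.H419.Spor.HS.facts
  have hfin : Finite Spor.HS := Nat.finite_of_card_ne_zero (by rw [hcard]; norm_num)
  exact Rows.mulEquiv (rows_of_evMix_two (p := 7) (q := 11) (by norm_num) (by norm_num) (by norm_num)
    (by rw [hcard]; norm_num) (by rw [hcard]; norm_num) (Cfsg.Agent.H713.Spor.HS.hasDZ 7 (Or.inl rfl))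
    (Cfsg.Agent.H713.Spor.HS.hasDZ 11 (Or.inr rfl)) Cfsg.Agent.H419.Spor.HS.evMix) e.symm

theorem hasDZ_mcl : HasDZ 11 Spor.McL := by
  obtain ⟨hs, hc⟩ := Cfsg.Agent.H713.Spor.McL.facts
  have hfin := Nat.finite_of_card_ne_zero (α := ↥(Cfsg.Agent.SporadicRecognition.HSRank.K (-Spor.leechV) Spor.leechU))
    (by rw [hc]; norm_num)
  refine HasDZ.mulEquiv Cfsg.Agent.H713.Spor.McL.mclEquiv.symm ?_
  obtain ⟨μ, -, hμ⟩ := Cfsg.Agent.H713.Spor.McL.exists_22
  have hdeg := Cfsg.Agent.H713.Spor.HS.degree_of_lchi hμ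
  refine Cfsg.Agent.H419.Row.dz_of_dvd (n := 1) μ ?_ ?_ (by norm_num)
  · have : charDegree (μ : ↥(Cfsg.Agent.SporadicRecognition.HSRank.K (-Spor.leechV) Spor.leechU) → ℂ) = 22 := by omega
    rw [this]
    norm_num
  · rw [hc]
    exact Cfsg.Agent.H713.factorization_eq_one (by norm_num) (by norm_num)

theorem rows_mcl {K : Type*} [Group K] (h : Spor.IsoMcL K) : Rows K := by
  have hev := Cfsg.Agent.H419.Spor.McL.evMix h
  obtain ⟨hfin, -, hcard, -⟩ := TypeM.FactsMcL.facts h
  obtain ⟨e⟩ := h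
  exact rows_of_evMix_two (p := 7) (q := 11) (by norm_num) (by norm_num) (by norm_num)
    (by rw [hcard]; norm_num) (by rw [hcard]; norm_num)
    (HasDZ.mulEquiv e.symm Cfsg.Agent.H713.Spor.McL.hasDZ_seven) (HasDZ.mulEquiv e.symm hasDZ_mcl) hev

end Cfsg.Agent.H620.RowSporA
end
end

-- part: H695/Spor/RowA
section
prune_inst 0x7f00000000000000000000000000000000000000000000000000000000000000000000000000000000000000000000000000000000000000000000000000000000000000000000000000000000000000003fffffffffffffffffffffffffffbeffbdffffffff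
set_option linter.all false
open scoped Cfsg.Agent.FastGrp

/-!
# The rows of the small sporadic groups for S4849 (helper695)
-/

set_option autoImplicit false

namespace Cfsg.Agent.H695.Spor.RowA

open Cfsg Cfsg.Agent.H620 Cfsg.Agent.H713 Cfsg.Agent.H620.SporCrit Cfsg.Agent.H620.RowSporA
open Cfsg.Agent.H665.NoPQ Cfsg.Agent.H419.Row Cfsg.Agent.H419.Count Cfsg.Agent.H419.LeechIrr
open Cfsg.Agent.H419.Spor.Mathieu Cfsg.Agent.H419.TwoTrans Cfsg.Agent.H695.Spor.Tool

theorem m11 {K : Type*} [Group K] [Finite K] (h : IsM11 K) : Tri K := by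
  obtain ⟨x, -, v, hv⟩ := Cfsg.Agent.SporadicA.M11Facts.exists_caseC h
  have hc : Nat.card K = 7920 := h.2
  have h1 : HasDZ 3 K := Cfsg.Agent.H419.Spor.M11.dz_three h
  have h2 : HasDZ 2 K := dz_of_val (n := 4) Nat.prime_two (v 5) (d := 16) (by simpa using hv.degs 5) (by norm_num)
    (by rw [hc]; exact factorization_eq Nat.prime_two (m := 495) (by norm_num) (by norm_num))
  have h3 : HasDZ 5 K := dz_of_val (n := 1) Nat.prime_five (v 4) (d := 45) (by simpa using hv.degs 4) (by norm_num)
    (by rw [hc]; exact factorization_eq Nat.prime_five (m := 1584) (by norm_num) (by norm_num))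
  have : Fact (Nat.Prime 3) := ⟨by norm_num⟩
  have : Fact (Nat.Prime 2) := ⟨by norm_num⟩
  exact tri_of_dz 2 3 5 h2 h1 h3 (by rw [hc]; norm_num) (by rw [hc]; norm_num) (by rw [hc]; norm_num)
    (by norm_num) (by norm_num) (by norm_num)

theorem tri_m11 {K : Type*} [Group K] (h : Spor.IsoM11 K) : Tri K := by
  have h1 : Cfsg.IsM11 K := Cfsg.Agent.UGT.End.MEleven.isM11 h
  have hfin : Finite K := Nat.finite_of_card_ne_zero (by rw [h1.2]; norm_num)
  exact m11 h1

theorem tri_m12 {K : Type*} [Group K] (h : Spor.IsoM12 K) : Tri K := by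
  obtain ⟨e⟩ := h
  have hcard := Cfsg.Agent.H714.SporRows.card_m12
  have hfin : Finite Spor.M12 := Nat.finite_of_card_ne_zero (by rw [hcard]; norm_num)
  have h11 : HasDZ 11 Spor.M12 := by
    refine Cfsg.Agent.H713.Spor.Small.hasDZ_of_two_trans Cfsg.Agent.H419.Spor.M12.Pts
      Cfsg.Agent.H419.Spor.M12.two_trans ?_ (by rw [hcard]; exact factorization_eq_one (by norm_num) (by norm_num)) ?_
    · rw [Nat.card_eq_fintype_card]
      decide +kernel
    · rw [Nat.card_eq_fintype_card]
      decide +kernel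
  refine Tri.mulEquiv (tri_of_vord (a := 5) (b := 11) (c := 6) ?_ ?_ ?_ (by norm_num) (by norm_num) (by norm_num)) e.symm
  · exact vord_of_dz Cfsg.Agent.H714.SporRows.hasDZ_five (by rw [hcard]; norm_num)
  · exact vord_of_dz h11 (by rw [hcard]; norm_num)
  · exact ⟨_, Cfsg.Agent.H419.Spor.M12.vz, Cfsg.Agent.H419.Spor.M12.x6_order⟩

theorem tri_m22 {K : Type*} [Group K] (h : Spor.IsoM22 K) : Tri K := by
  obtain ⟨e⟩ := h
  have hM : Cfsg.IsM22 Spor.M22 :=
    ⟨Cfsg.Agent.SporadicA.MathieuRecog.simple_M22, Cfsg.Agent.SporadicA.MathieuRecog.card_M22⟩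
  have hcard : Nat.card Spor.M22 = 443520 := hM.2
  have hfin : Finite Spor.M22 := Nat.finite_of_card_ne_zero (by rw [hcard]; norm_num)
  obtain ⟨f, hf⟩ := Cfsg.Agent.H419.Spor.M22.degrees hM
  have h154 : charDegree ((f 6 : IrrCharacter Spor.M22) : Spor.M22 → ℂ) = 154 := hf 6
  have h45 : charDegree ((f 2 : IrrCharacter Spor.M22) : Spor.M22 → ℂ) = 45 := hf 2
  have h7 : HasDZ 7 Spor.M22 := dz_of_dvd (n := 1) (f 6) (by rw [h154]; norm_num)
    (by rw [hcard]; exact factorization_eq (by norm_num) (m := 63360) (by norm_num) (by norm_num)) (by norm_num)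
  have h11 : HasDZ 11 Spor.M22 := dz_of_dvd (n := 1) (f 6) (by rw [h154]; norm_num)
    (by rw [hcard]; exact factorization_eq (by norm_num) (m := 40320) (by norm_num) (by norm_num)) (by norm_num)
  have h5 : HasDZ 5 Spor.M22 := dz_of_dvd (n := 1) (f 2) (by rw [h45]; norm_num)
    (by rw [hcard]; exact factorization_eq (by norm_num) (m := 88704) (by norm_num) (by norm_num)) (by norm_num)
  exact Tri.mulEquiv (tri_of_dz 7 11 5 h7 h11 h5 (by rw [hcard]; norm_num) (by rw [hcard]; norm_num)
    (by rw [hcard]; norm_num) (by norm_num) (by norm_num) (by norm_num)) e.symm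

theorem hasDZ_m23_23 : HasDZ 23 Spor.M23 := by
  have hcard : Nat.card Spor.M23 = 10200960 := Cfsg.Agent.SporadicA.MathieuRecog.card_M23
  have hfin : Finite Spor.M23 := Nat.finite_of_card_ne_zero (by rw [hcard]; norm_num)
  have h5 := Cfsg.Agent.S0366.result
  refine HasDZ.mulEquiv Cfsg.Agent.H419.Spor.M23.e ?_
  have hcard' : Nat.card Cfsg.Agent.H419.Spor.M23.St = 10200960 := by
    rw [Nat.card_congr Cfsg.Agent.H419.Spor.M23.e.toEquiv, hcard]
  have h1 : MulAction.IsPretransitive M24 GolayPt := by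
    rw [← MulAction.is_one_pretransitive_iff]
    exact MulAction.isMultiplyPretransitive_of_le (n := 5) (by norm_num) (by
      rw [Nat.card_eq_fintype_card]
      decide)
  have h4 : MulAction.IsMultiplyPretransitive Cfsg.Agent.H419.Spor.M23.St
      (SubMulAction.ofStabilizer M24 (none : GolayPt)) 4 :=
    SubMulAction.ofStabilizer.isMultiplyPretransitive.1 h5
  have h23 : Nat.card (SubMulAction.ofStabilizer M24 (none : GolayPt)) = 23 := by
    rw [SubMulAction.nat_card_ofStabilizer_eq, Nat.card_eq_fintype_card]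
    decide
  exact dz_a (SubMulAction.ofStabilizer M24 (none : GolayPt)) h4 (n := 1) (d := 230) (k := 23) (by norm_num) h23
    (by norm_num) (by norm_num) (by norm_num)
    (by rw [hcard']; exact factorization_eq_one (by norm_num) (by norm_num))

theorem tri_m23 {K : Type*} [Group K] (h : Spor.IsoM23 K) : Tri K := by
  obtain ⟨e⟩ := h
  have hcard : Nat.card Spor.M23 = 10200960 := Cfsg.Agent.SporadicA.MathieuRecog.card_M23
  have hfin : Finite Spor.M23 := Nat.finite_of_card_ne_zero (by rw [hcard]; norm_num)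
  exact Tri.mulEquiv (tri_of_vord (vord_of_dz hasDZ_m23 (by rw [hcard]; norm_num))
    (vord_of_dz hasDZ_m23_23 (by rw [hcard]; norm_num)) vord_m23 (by norm_num) (by norm_num) (by norm_num)) e.symm

theorem hasDZ_m24_11 : HasDZ 11 M24 := by
  have hcard : Nat.card M24 = 244823040 := Cfsg.Agent.SporadicA.M24Trans.card_M24
  have hfin : Finite M24 := Nat.finite_of_card_ne_zero (by rw [hcard]; norm_num)
  have h5 := Cfsg.Agent.S0366.result
  exact dz_b GolayPt (MulAction.isMultiplyPretransitive_of_le (n := 5) (by norm_num)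
      (by rw [Nat.card_eq_fintype_card]; decide)) (n := 1) (d := 253) (k := 24) (by norm_num)
      (by rw [Nat.card_eq_fintype_card]; decide) (by norm_num) (by norm_num) (by norm_num)
      (by rw [hcard]; exact factorization_eq_one (by norm_num) (by norm_num))

theorem tri_m24 {K : Type*} [Group K] (h : Spor.IsoM24 K) : Tri K := by
  obtain ⟨e⟩ := h
  have hcard : Nat.card M24 = 244823040 := Cfsg.Agent.SporadicA.M24Trans.card_M24
  have hfin : Finite M24 := Nat.finite_of_card_ne_zero (by rw [hcard]; norm_num)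
  exact Tri.mulEquiv (tri_of_vord (vord_of_dz hasDZ_m24 (by rw [hcard]; norm_num))
    (vord_of_dz hasDZ_m24_11 (by rw [hcard]; norm_num)) vord_m24 (by norm_num) (by norm_num) (by norm_num)) e.symm

theorem hasDZ_j1_7 : HasDZ 7 Spor.J1 := by
  have : Fact (Nat.Prime 7) := ⟨by norm_num⟩
  have hcard := Cfsg.Agent.H714.SporRows.card_j1
  have hfin : Finite Spor.J1 := Nat.finite_of_card_ne_zero (by rw [hcard]; norm_num)
  have hfac : (Nat.card Spor.J1).factorization 7 = 1 := by
    rw [hcard]; exact factorization_eq_one (by norm_num) (by norm_num)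
  have hspec := Cfsg.Agent.H413.JOneSpec.exists_orderOf_iff
  obtain ⟨x, hx⟩ : ∃ x : Spor.J1, orderOf x = 7 := (hspec 7).2 (by decide)
  have hc : Nat.card (Subgroup.centralizer ({x} : Set Spor.J1)) = 7 := by
    refine card_centralizer_of_orders hfac (fun y hy => ?_) hx
    have h1 := (hspec (orderOf y)).1 ⟨y, rfl⟩
    revert hy
    generalize orderOf y = n at h1 ⊢
    fin_cases h1 <;> norm_num
  refine hasDZ_of_orders hfac hx hc {1, 2, 3, 5, 6, 10, 11, 15, 19} (fun n hn => ⟨?_, ?_⟩) ?_
  · revert hn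
    generalize n = m
    intro hm
    fin_cases hm <;> norm_num
  · refine (hspec n).2 ?_
    fin_cases hn <;> decide
  · rw [hcard]; decide

theorem tri_j1 {K : Type*} [Group K] (h : Spor.IsoJ1 K) : Tri K := by
  obtain ⟨e⟩ := h
  have hcard := Cfsg.Agent.H714.SporRows.card_j1
  have hfin : Finite Spor.J1 := Nat.finite_of_card_ne_zero (by rw [hcard]; norm_num)
  have hs : IsSimpleGroup Spor.J1 := Cfsg.Agent.SporadicB.J1.Main.isJ1.1
  refine Tri.mulEquiv (Third.tri (p := 19) (q := 7) ?_ (by norm_num)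
    (by rw [hcard]; exact factorization_eq_one (by norm_num) (by norm_num))
    (by rw [hcard]; exact factorization_eq_one (by norm_num) (by norm_num)) ?_
    (index_of_out (by rw [Cfsg.Agent.S2065.result]; norm_num)) Cfsg.Agent.H714.SporRows.hasDZ_nineteen hasDZ_j1_7) e.symm
  · by_contra hcon
    push Not at hcon
    have h19 : 19 ∣ Nat.card Spor.J1 := by rw [hcard]; norm_num
    obtain ⟨x, hx⟩ := exists_prime_orderOf_dvd_card' 19 h19
    have h7 : 7 ∣ Nat.card Spor.J1 := by rw [hcard]; norm_num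
    obtain ⟨y, hy⟩ := exists_prime_orderOf_dvd_card' 7 h7
    have hco : Commute x y := hcon x y
    have h1 := hco.orderOf_mul_eq_mul_orderOf_of_coprime (by rw [hx, hy]; norm_num)
    rw [hx, hy] at h1
    have h2 := (Cfsg.Agent.H413.JOneSpec.exists_orderOf_iff (19 * 7)).1 ⟨_, h1⟩
    revert h2
    decide
  · intro y hy
    have h1 := (Cfsg.Agent.H413.JOneSpec.exists_orderOf_iff (orderOf y)).1 ⟨y, rfl⟩
    revert hy
    generalize orderOf y = n at h1 ⊢
    fin_cases h1 <;> norm_num

end Cfsg.Agent.H695.Spor.RowA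
end
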